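import Mathlib

/-! # Hopf ideals of the generic fibre of a finite flat Hopf algebra over a Dedekind domain -/

set_option autoImplicit false
universe u
open scoped TensorProduct

namespace Hopf31

variable (R : Type u) [CommRing R] (K : Type u) [CommRing K] [Algebra R K]
  (A : Type u) [CommRing A] [HopfAlgebra R A]

theorem counit_one_tmul (x : A) :
    Coalgebra.counit (R := K) ((1 : K) ⊗ₜ[R] x) = algebraMap R K (Coalgebra.counit (R := R) x) := by
  simp [Algebra.algebraMap_eq_smul_one]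

theorem antipode_one_tmul (x : A) :
    HopfAlgebraStruct.antipode K ((1 : K) ⊗ₜ[R] x) = (1 : K) ⊗ₜ[R] HopfAlgebraStruct.antipode R x := by
  rw [TensorProduct.antipode_def]
  simp

variable {R K A} (J' : Ideal A) (J : Ideal (K ⊗[R] A))
  (h : J' ≤ J.comap (Algebra.TensorProduct.includeRight : A →ₐ[R] K ⊗[R] A))

/-- The map from an integral quotient to a quotient of the generic fibre. -/
noncomputable def bar : (A ⧸ J') →ₐ[R] (K ⊗[R] A) ⧸ J :=
  Ideal.Quotient.liftₐ J' ((Ideal.Quotient.mkₐ R J).comp Algebra.TensorProduct.includeRight) fun _ ha =>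
    Ideal.Quotient.eq_zero_iff_mem.mpr (h ha)

theorem bar_mk (x : A) :
    bar J' J h (Ideal.Quotient.mk J' x) = Ideal.Quotient.mk J ((1 : K) ⊗ₜ[R] x) := rfl

/-- The map on tensor squares of quotients. -/
noncomputable def barSq : (A ⧸ J') ⊗[R] (A ⧸ J') →ₗ[R] ((K ⊗[R] A) ⧸ J) ⊗[K] ((K ⊗[R] A) ⧸ J) :=
  (TensorProduct.mapOfCompatibleSMul K R R _ _) ∘ₗ
    TensorProduct.map (bar J' J h).toLinearMap (bar J' J h).toLinearMap

theorem barSq_comul (x : A) :
    barSq J' J h (TensorProduct.map (Ideal.Quotient.mkₐ R J').toLinearMap (Ideal.Quotient.mkₐ R J').toLinearMap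
        (Coalgebra.comul (R := R) x)) =
      TensorProduct.map (Ideal.Quotient.mkₐ K J).toLinearMap (Ideal.Quotient.mkₐ K J).toLinearMap
        (Coalgebra.comul (R := K) ((1 : K) ⊗ₜ[R] x)) := by
  rw [TensorProduct.comul_tmul, CommSemiring.comul_apply]
  induction Coalgebra.comul (R := R) x using TensorProduct.induction_on with
  | zero => simp
  | add u v hu hv => simp only [map_add, TensorProduct.tmul_add, hu, hv]
  | tmul a b =>
    simp only [TensorProduct.map_tmul, TensorProduct.AlgebraTensorModule.tensorTensorTensorComm_tmul, barSq,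
      LinearMap.comp_apply]
    rfl

include h in
theorem comul_mem (x : A)
    (hx : TensorProduct.map (Ideal.Quotient.mkₐ R J').toLinearMap (Ideal.Quotient.mkₐ R J').toLinearMap (Coalgebra.comul (R := R) x) = 0) :
    TensorProduct.map (Ideal.Quotient.mkₐ K J).toLinearMap (Ideal.Quotient.mkₐ K J).toLinearMap
      (Coalgebra.comul (R := K) ((1 : K) ⊗ₜ[R] x)) = 0 := by
  rw [← barSq_comul J' J h, hx, map_zero]

theorem isHopfIdeal_map (hJ' : J'.IsHopfIdeal R) :
    (Ideal.map (Algebra.TensorProduct.includeRight : A →ₐ[R] K ⊗[R] A) J').IsHopfIdeal K := by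
  set J := Ideal.map (Algebra.TensorProduct.includeRight : A →ₐ[R] K ⊗[R] A) J' with hJ
  have hle : J' ≤ J.comap (Algebra.TensorProduct.includeRight : A →ₐ[R] K ⊗[R] A) := Ideal.le_comap_map
  let ε : K ⊗[R] A →+* K := (Bialgebra.counitAlgHom K (K ⊗[R] A)).toRingHom
  let Δ : K ⊗[R] A →ₐ[K] ((K ⊗[R] A) ⧸ J) ⊗[K] ((K ⊗[R] A) ⧸ J) :=
    (Algebra.TensorProduct.map (Ideal.Quotient.mkₐ K J) (Ideal.Quotient.mkₐ K J)).comp
      (Bialgebra.comulAlgHom K (K ⊗[R] A))
  let σ : K ⊗[R] A →+* K ⊗[R] A := (HopfAlgebra.antipodeAlgHom K (K ⊗[R] A)).toRingHom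
  have hε : J ≤ RingHom.ker ε := Ideal.map_le_iff_le_comap.mpr fun x hx => by
    show Coalgebra.counit (R := K) ((1 : K) ⊗ₜ[R] x) = 0
    rw [counit_one_tmul, hJ'.toIsCoideal.counit_eq_zero hx, map_zero]
  have hΔ : J ≤ RingHom.ker Δ.toRingHom := Ideal.map_le_iff_le_comap.mpr fun x hx => by
    show TensorProduct.map (Ideal.Quotient.mkₐ K J).toLinearMap (Ideal.Quotient.mkₐ K J).toLinearMap
      (Coalgebra.comul (R := K) ((1 : K) ⊗ₜ[R] x)) = 0
    exact comul_mem J' J hle x (hJ'.toIsCoideal.map_mkQ_comul_eq_zero hx)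
  have hσ : J ≤ J.comap σ := Ideal.map_le_iff_le_comap.mpr fun x hx => by
    show HopfAlgebraStruct.antipode K ((1 : K) ⊗ₜ[R] x) ∈ J
    rw [antipode_one_tmul]
    exact Ideal.mem_map_of_mem _ (hJ'.antipode_mem hx)
  have : (J.restrictScalars K).IsCoideal := ⟨fun _ hx => hε hx, fun _ hx => hΔ hx⟩
  exact ⟨fun _ hx => hσ hx⟩

section Dedekind

variable {R : Type u} [CommRing R] (K : Type u) [Field K] [Algebra R K] [IsFractionRing R K]
  {A : Type u} [CommRing A] [HopfAlgebra R A]

local notation "incl" => (Algebra.TensorProduct.includeRight : A →ₐ[R] K ⊗[R] A)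

theorem comap_map_eq (J' : Ideal A) [Module.Flat R (A ⧸ J')] :
    (Ideal.map incl J').comap incl = J' := by
  refine le_antisymm (fun x hx => ?_) Ideal.le_comap_map
  let ψ : K ⊗[R] A →ₐ[K] K ⊗[R] (A ⧸ J') :=
    Algebra.TensorProduct.map (AlgHom.id K K) (Ideal.Quotient.mkₐ R J')
  have hψ : Ideal.map incl J' ≤ RingHom.ker ψ.toRingHom := Ideal.map_le_iff_le_comap.mpr fun y hy => by
    show (1 : K) ⊗ₜ[R] Ideal.Quotient.mk J' y = 0
    rw [Ideal.Quotient.eq_zero_iff_mem.mpr hy, TensorProduct.tmul_zero]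
  have h0 : (1 : K) ⊗ₜ[R] Ideal.Quotient.mk J' x = 0 := hψ hx
  refine Ideal.Quotient.eq_zero_iff_mem.mp ?_
  have hinj := Module.Flat.rTensor_preserves_injective_linearMap (M := A ⧸ J') (Algebra.linearMap R K)
    (IsFractionRing.injective R K)
  refine (TensorProduct.lid R (A ⧸ J')).symm.injective (hinj ?_)
  simpa using h0

theorem map_comap_eq (J : Ideal (K ⊗[R] A)) : Ideal.map incl (J.comap incl) = J := by
  refine le_antisymm Ideal.map_comap_le fun z hz => ?_
  obtain ⟨⟨a, s⟩, hs⟩ := IsLocalizedModule.surj (nonZeroDivisors R) (TensorProduct.mk R K A 1) z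
  have h1 : incl a ∈ J := by
    show (TensorProduct.mk R K A 1) a ∈ J
    rw [← hs, Submonoid.smul_def, ← algebraMap_smul K (s : R) z]
    exact Submodule.smul_of_tower_mem J _ hz
  have hz' : z = (algebraMap R K s)⁻¹ • incl a := by
    show z = _ • (TensorProduct.mk R K A 1) a
    rw [← hs, Submonoid.smul_def, ← algebraMap_smul K (s : R) z,
      inv_smul_smul₀ (IsLocalization.map_units K s).ne_zero]
  rw [hz']
  exact Submodule.smul_of_tower_mem _ _ (Ideal.mem_map_of_mem _ h1)

variable [IsDedekindDomain R]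

theorem bar_comap_injective (J : Ideal (K ⊗[R] A)) :
    Function.Injective (bar (J.comap incl) J le_rfl) := by
  refine (injective_iff_map_eq_zero _).mpr fun y hy => ?_
  obtain ⟨x, rfl⟩ := Ideal.Quotient.mk_surjective y
  rw [bar_mk] at hy
  exact Ideal.Quotient.eq_zero_iff_mem.mpr (show incl x ∈ J from Ideal.Quotient.eq_zero_iff_mem.mp hy)

theorem flat_quotient_comap (J : Ideal (K ⊗[R] A)) : Module.Flat R (A ⧸ J.comap incl) := by
  rw [IsDedekindDomain.flat_iff_torsion_eq_bot, eq_bot_iff]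
  intro y hy
  obtain ⟨⟨r, hr⟩, hry⟩ := hy
  refine bar_comap_injective K J ?_
  have h1 : algebraMap R K r • bar (J.comap incl) J le_rfl y = 0 := by
    rw [algebraMap_smul, ← map_smul, show r • y = 0 from hry, map_zero]
  rw [map_zero]
  exact (smul_eq_zero.mp h1).resolve_left (IsLocalization.map_units K (⟨r, hr⟩ : nonZeroDivisors R)).ne_zero

theorem barSq_injective (J : Ideal (K ⊗[R] A)) : Function.Injective (barSq (J.comap incl) J le_rfl) := by
  have := flat_quotient_comap K J
  have := IsLocalization.flat K (nonZeroDivisors R)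
  have : Module.Flat R ((K ⊗[R] A) ⧸ J) := Module.Flat.trans R K _
  have hc : TensorProduct.CompatibleSMul R K ((K ⊗[R] A) ⧸ J) ((K ⊗[R] A) ⧸ J) :=
    IsLocalization.tensorProduct_compatibleSMul (nonZeroDivisors R) K _ _
  have h1 := bar_comap_injective K J
  rw [barSq, LinearMap.coe_comp]
  refine Function.Injective.comp
    (TensorProduct.equivOfCompatibleSMul R K R ((K ⊗[R] A) ⧸ J) ((K ⊗[R] A) ⧸ J)).symm.injective ?_
  rw [← LinearMap.rTensor_comp_lTensor, LinearMap.coe_comp]
  exact (Module.Flat.rTensor_preserves_injective_linearMap _ h1).comp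
    (Module.Flat.lTensor_preserves_injective_linearMap _ h1)

theorem isHopfIdeal_comap (J : Ideal (K ⊗[R] A)) (hJ : J.IsHopfIdeal K) :
    (J.comap incl).IsHopfIdeal R := by
  have : ((J.comap incl).restrictScalars R).IsCoideal := by
    refine ⟨fun x hx => ?_, fun x hx => ?_⟩
    · have h := hJ.toIsCoideal.counit_eq_zero (x := (1 : K) ⊗ₜ[R] x) hx
      rw [counit_one_tmul] at h
      exact IsFractionRing.injective R K (by rw [h, map_zero])
    · show TensorProduct.map (Ideal.Quotient.mkₐ R (J.comap incl)).toLinearMap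
        (Ideal.Quotient.mkₐ R (J.comap incl)).toLinearMap (Coalgebra.comul (R := R) x) = 0
      refine barSq_injective K J ?_
      rw [barSq_comul, map_zero]
      exact hJ.toIsCoideal.map_mkQ_comul_eq_zero (x := (1 : K) ⊗ₜ[R] x) hx
  refine ⟨fun x hx => ?_⟩
  show (1 : K) ⊗ₜ[R] HopfAlgebraStruct.antipode R x ∈ J
  rw [← antipode_one_tmul]
  exact hJ.antipode_mem hx

theorem bijOn_map : Set.BijOn (fun J' : Ideal A => Ideal.map incl J')
    {J' : Ideal A | J'.IsHopfIdeal R ∧ Module.Flat R (A ⧸ J')} {J : Ideal (K ⊗[R] A) | J.IsHopfIdeal K} := by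
  refine ⟨fun J' h => isHopfIdeal_map J' h.1, fun J₁ h₁ J₂ h₂ e => ?_, fun J hJ =>
    ⟨J.comap incl, ⟨isHopfIdeal_comap K J hJ, flat_quotient_comap K J⟩, map_comap_eq K J⟩⟩
  have := h₁.2
  have := h₂.2
  rw [← comap_map_eq (R := R) K J₁, ← comap_map_eq (R := R) K J₂]
  exact congrArg (Ideal.comap incl) e

end Dedekind

end Hopf31
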